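import Mathlib.AlgebraicGeometry.Properties
import Mathlib.AlgebraicGeometry.Noetherian
import Mathlib.RingTheory.Ideal.KrullsHeightTheorem

/-!
Points of Noetherian schemes: the codimension of a point as a natural number, antichains for
specialization, countable subsets with prescribed closure points.
-/

set_option autoImplicit false

universe u

open CategoryTheory AlgebraicGeometry TopologicalSpace Topology

namespace Groth.Agent.NoethPtsLib

variable {S : Scheme.{u}} [IsLocallyNoetherian S]

theorem coheight_lt_top (x : S) : Order.coheight x < ⊤ := by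
  have h := ringKrullDim_lt_top (R := S.presheaf.stalk x)
  rw [ringKrullDim_stalk_eq_coheight] at h
  exact WithBot.coe_lt_coe.1 h

/-- The codimension of a point. -/
noncomputable def ht (x : S) : ℕ := (Order.coheight x).toNat

/-- A strict generization has smaller codimension. -/
theorem ht_lt {x y : S} (h : y ⤳ x) (hne : y ≠ x) : ht y < ht x := by
  have h' : x < y := lt_of_le_not_ge (Scheme.le_iff_specializes.2 h)
    fun h2 => hne (h.antisymm (Scheme.le_iff_specializes.1 h2)).eq
  have h3 := Order.coheight_strictAnti h' (coheight_lt_top y)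
  rwa [← Nat.cast_lt (α := ℕ∞), ht, ht, ENat.natCast_toNat (coheight_lt_top y).ne,
    ENat.natCast_toNat (coheight_lt_top x).ne]

theorem eq_of_ht_eq {x y : S} (h : y ⤳ x) (he : ht y = ht x) : y = x := by
  by_contra hne
  exact absurd he (ht_lt h hne).ne

theorem exists_maximal_generization (T : Set S) (t : S) (ht' : t ∈ T) :
    ∃ t₀ ∈ T, (∀ t' ∈ T, t' ⤳ t₀ → t' = t₀) ∧ t₀ ⤳ t := by
  classical
  have hne : ∃ n, ∃ s ∈ T, s ⤳ t ∧ ht s = n := ⟨_, t, ht', specializes_refl t, rfl⟩
  obtain ⟨s, hs, hst, hn⟩ := Nat.find_spec hne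
  refine ⟨s, hs, fun t' h' hs' => ?_, hst⟩
  by_contra hne'
  exact Nat.find_min hne (hn ▸ ht_lt hs' hne') ⟨t', h', hs'.trans hst, rfl⟩

theorem exists_infinite_antichain [CompactSpace S] (T : Set S) (hT : T.Infinite) :
    ∃ T' : Set S, T' ⊆ T ∧ T'.Infinite ∧ ∀ a ∈ T', ∀ b ∈ T', a ⤳ b → a = b := by
  classical
  haveI : IsNoetherian S := {}
  by_cases h : ∃ n, {x ∈ T | ht x = n}.Infinite
  · obtain ⟨n, hn⟩ := h
    exact ⟨_, fun x hx => hx.1, hn, fun a ha b hb hab => eq_of_ht_eq hab (ha.2.trans hb.2.symm)⟩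
  push Not at h
  let M : Set S := {m ∈ T | ∀ b ∈ T, m ⤳ b → m = b}
  refine ⟨M, fun x hx => hx.1, ?_, fun a ha b hb hab => ha.2 b hb.1 hab⟩
  intro hfin
  obtain ⟨N, hN⟩ := (hfin.image ht).bddAbove
  refine hT (((Set.finite_Iic N).biUnion fun n _ => h n).subset fun t htT => ?_)
  obtain ⟨C, ⟨m, ⟨hmT, htm⟩, rfl⟩, hCmin⟩ := (wellFounded_lt (α := Closeds S)).has_min
    ((fun s => (⟨closure {s}, isClosed_closure⟩ : Closeds S)) '' {s | s ∈ T ∧ t ⤳ s})
    ⟨_, t, ⟨htT, specializes_refl t⟩, rfl⟩
  have hmM : m ∈ M := ⟨hmT, fun b hb hmb => by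
    by_contra hne
    refine hCmin _ ⟨b, ⟨hb, htm.trans hmb⟩, rfl⟩ (lt_of_le_not_ge hmb.closure_subset fun hle => hne ?_)
    exact (hmb.antisymm (specializes_iff_closure_subset.2 hle)).eq⟩
  have hle : ht t ≤ N := by
    by_cases he : t = m
    · exact he ▸ hN ⟨m, hmM, rfl⟩
    · exact (ht_lt htm he).le.trans (hN ⟨m, hmM, rfl⟩)
  exact Set.mem_biUnion (x := ht t) hle ⟨htT, rfl⟩

section Countable

variable {α : Type*} [TopologicalSpace α]

/-- The points in the closure of some countable subset of `T`. -/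
def countablyReached (T : Set α) : Set α := {x | ∃ E ⊆ T, E.Countable ∧ x ∈ closure E}

theorem subset_countablyReached (T : Set α) : T ⊆ countablyReached T :=
  fun x hx => ⟨{x}, Set.singleton_subset_iff.2 hx, Set.countable_singleton x, subset_closure rfl⟩

theorem mem_countablyReached {T E : Set α} (hE : E.Countable) (hET : E ⊆ countablyReached T) {x : α}
    (hx : x ∈ closure E) : x ∈ countablyReached T := by
  choose F hFT hFc hmem using fun e : E => hET e.2
  haveI := hE.to_subtype
  refine ⟨⋃ e, F e, Set.iUnion_subset hFT, Set.countable_iUnion hFc, ?_⟩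
  refine closure_minimal (fun e he => ?_) isClosed_closure hx
  exact closure_mono (Set.subset_iUnion F ⟨e, he⟩) (hmem ⟨e, he⟩)

theorem exists_finite_union (W : Set α) [NoetherianSpace α] (hW : IsClosed W) :
    ∃ s : Finset (Closeds α), (∀ C ∈ s, IsIrreducible (C : Set α)) ∧ W = ⋃ C ∈ s, (C : Set α) := by
  obtain ⟨s, hf, hs, he⟩ := NoetherianSpace.exists_finite_set_closeds_irreducible (⟨W, hW⟩ : Closeds α)
  refine ⟨hf.toFinset, fun C hC => hs C (hf.mem_toFinset.1 hC), ?_⟩
  rw [sSup_eq_iSup, ← hf.coe_toFinset] at he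
  have := congrArg (fun C : Closeds α => (C : Set α)) he
  simp only [Finset.mem_coe, Closeds.coe_mk] at this
  rw [this]
  clear he this
  classical
  induction hf.toFinset using Finset.induction_on with
  | empty => simp
  | insert a t ha ih => rw [Finset.iSup_insert, Closeds.coe_sup, ih, Finset.set_biUnion_insert]

end Countable

omit [IsLocallyNoetherian S] in
/-- In a closed set in which a set is dense, the set is dense in each member of a irredundant cover. -/
theorem subset_closure_inter {W C D G : Set S} (hC : IsIrreducible C) (hD : IsClosed D)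
    (hW : W = C ∪ D) (hG : W ⊆ closure G) (hGW : G ⊆ W) (hCD : ¬ C ⊆ D) : C ⊆ closure (G ∩ C) := by
  have h1 : C ⊆ closure (G ∩ C) ∪ D := by
    intro x hx
    have : x ∈ closure ((G ∩ C) ∪ D) := by
      refine closure_mono (fun g hg => ?_) (hG (hW.ge (Or.inl hx)))
      rcases hW.le (hGW hg) with h | h
      · exact Or.inl ⟨hg, h⟩
      · exact Or.inr h
    rwa [closure_union, hD.closure_eq] at this
  rcases isPreirreducible_iff_isClosed_union_isClosed.1 hC.2 _ _ isClosed_closure hD h1 with h | h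
  · exact h
  · exact absurd h hCD

theorem genericPoint_mem_countablyReached [CompactSpace S] (T : Set S) (Z : Closeds S) :
    ∀ η : S, IsGenericPoint η (Z : Set S) → (Z : Set S) ⊆ closure (countablyReached T ∩ Z) →
      η ∈ countablyReached T := by
  classical
  haveI : IsNoetherian S := {}
  induction Z using (wellFounded_lt (α := Closeds S)).induction with
  | _ Z IH =>
  intro η hη hd
  by_contra hη'
  set G : Set S := countablyReached T ∩ (Z : Set S) with hGdef
  have hne : ∀ g ∈ G, g ≠ η := fun g hg h => hη' (h ▸ hg.1)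
  let Gle : ℕ → Set S := fun n => {g ∈ G | ht g ≤ n}
  have hclose : ∀ H ⊆ G, closure H ⊆ (Z : Set S) :=
    fun H hH => closure_minimal (hH.trans Set.inter_subset_right) Z.isClosed
  -- the members of an irredundant decomposition of a proper closed subset have their generic point in `G`
  have hcomp : ∀ H ⊆ G, η ∉ closure H → ∃ P : Finset S, (↑P ⊆ countablyReached T) ∧ H ⊆ closure ↑P := by
    intro H hH hη''
    have hex : ∃ n, ∃ s : Finset (Closeds S), s.card = n ∧ (∀ C ∈ s, IsIrreducible (C : Set S)) ∧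
        closure H = ⋃ C ∈ s, (C : Set S) := by
      obtain ⟨s, hs, he⟩ := exists_finite_union (closure H) isClosed_closure
      exact ⟨_, s, rfl, hs, he⟩
    obtain ⟨s, hcard, hs, he⟩ := Nat.find_spec hex
    have hirr : ∀ C ∈ s, ¬ (C : Set S) ⊆ ⋃ D ∈ s.erase C, (D : Set S) := by
      intro C hC hsub
      refine Nat.find_min hex (m := (s.erase C).card) (hcard ▸ Finset.card_erase_lt_of_mem hC)
        ⟨_, rfl, fun D hD => hs D (Finset.mem_of_mem_erase hD), ?_⟩
      refine subset_antisymm (fun x hx => ?_) (fun x hx => ?_)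
      · obtain ⟨D, hD, hxD⟩ := Set.mem_iUnion₂.1 (he.le hx)
        by_cases hDC : D = C
        · exact hsub (hDC ▸ hxD)
        · exact Set.mem_iUnion₂.2 ⟨D, Finset.mem_erase.2 ⟨hDC, hD⟩, hxD⟩
      · obtain ⟨D, hD, hxD⟩ := Set.mem_iUnion₂.1 hx
        exact he.ge (Set.mem_iUnion₂.2 ⟨D, Finset.mem_of_mem_erase hD, hxD⟩)
    have hgen : ∀ C : s, ∃ ζ, IsGenericPoint ζ ((C : Closeds S) : Set S) :=
      fun C => QuasiSober.sober (hs C C.2) (C : Closeds S).isClosed
    choose ζ hζ using hgen
    refine ⟨Finset.univ.image ζ, ?_, ?_⟩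
    · intro x hx
      obtain ⟨⟨C, hC⟩, -, rfl⟩ := Finset.mem_image.1 hx
      have hCW : (C : Set S) ⊆ closure H := fun y hy => he.ge (Set.mem_iUnion₂.2 ⟨C, hC, hy⟩)
      have hCZ : C < Z := lt_of_le_not_ge (hCW.trans (hclose H hH))
        fun hle => hη'' (hCW (hle hη.mem))
      refine IH C hCZ _ (hζ ⟨C, hC⟩) ?_
      refine (subset_closure_inter (W := closure H) (hs C hC)
        (Set.Finite.isClosed_biUnion (s.erase C).finite_toSet fun D _ => D.isClosed)
        (?_ : closure H = _) subset_rfl subset_closure (hirr C hC)).trans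
          (closure_mono fun y hy => ⟨(hH hy.1).1, hy.2⟩)
      rw [he]
      refine subset_antisymm (fun y hy => ?_) (fun y hy => ?_)
      · obtain ⟨D, hD, hyD⟩ := Set.mem_iUnion₂.1 hy
        by_cases hDC : D = C
        · exact Or.inl (hDC ▸ hyD)
        · exact Or.inr (Set.mem_iUnion₂.2 ⟨D, Finset.mem_erase.2 ⟨hDC, hD⟩, hyD⟩)
      · rcases hy with hy | hy
        · exact Set.mem_iUnion₂.2 ⟨C, hC, hy⟩
        · obtain ⟨D, hD, hyD⟩ := Set.mem_iUnion₂.1 hy
          exact Set.mem_iUnion₂.2 ⟨D, Finset.mem_of_mem_erase hD, hyD⟩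
    · intro x hx
      obtain ⟨C, hC, hxC⟩ := Set.mem_iUnion₂.1 (he.le (subset_closure hx))
      refine closure_mono ?_ ((hζ ⟨C, hC⟩).def.ge hxC)
      simp
  have hηG : η ∈ closure G := hd hη.mem
  have hex : ∃ n, η ∈ closure (Gle n) := by
    by_contra hcon
    push Not at hcon
    choose P hPG hP using fun n => hcomp (Gle n) (fun g hg => hg.1) (hcon n)
    refine hη' (mem_countablyReached (E := ⋃ n, (P n : Set S))
      (Set.countable_iUnion fun n => (P n).countable_toSet) (Set.iUnion_subset hPG) ?_)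
    refine closure_minimal (fun g hg => ?_) isClosed_closure hηG
    exact closure_mono (Set.subset_iUnion (fun n => (P n : Set S)) (ht g)) (hP (ht g) ⟨hg, le_rfl⟩)
  have hn := Nat.find_spec hex
  set n := Nat.find hex
  set F : Set S := closure {g ∈ G | ht g < n} with hFdef
  have hηF : η ∉ F := by
    intro h
    rcases n.eq_zero_or_pos with h0 | hpos
    · simp [hFdef, h0] at h
    · refine Nat.find_min hex (Nat.sub_lt hpos one_pos) (closure_mono (fun g hg => ?_) h)
      exact ⟨hg.1, Nat.le_sub_one_of_lt hg.2⟩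
  have hinf : (Gle n \ F).Infinite := by
    intro hfin
    have h1 : Gle n ⊆ F ∪ ⋃ g ∈ Gle n \ F, closure {g} := by
      intro g hg
      by_cases h : g ∈ F
      · exact Or.inl h
      · exact Or.inr (Set.mem_iUnion₂.2 ⟨g, ⟨hg, h⟩, subset_closure rfl⟩)
    rcases closure_minimal h1 (isClosed_closure.union (hfin.isClosed_biUnion fun _ _ => isClosed_closure)) hn
      with h | h
    · exact hηF h
    · obtain ⟨g, hg, hgη⟩ := Set.mem_iUnion₂.1 h
      exact hne g hg.1.1 ((specializes_iff_mem_closure.2 hgη).antisymm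
        (hη.specializes hg.1.1.2)).eq
  let f := hinf.natEmbedding
  let E : Set S := Set.range fun i => (f i : S)
  have hEG : E ⊆ countablyReached T := by
    rintro _ ⟨i, rfl⟩
    exact (f i).2.1.1.1
  have hEc : E.Countable := Set.countable_range _
  obtain ⟨s, hs, he⟩ := exists_finite_union (closure E) isClosed_closure
  have hcov : ∀ i, ∃ C ∈ s, (f i : S) ∈ (C : Set S) := fun i => by
    obtain ⟨C, hC, hiC⟩ := Set.mem_iUnion₂.1 (he.le (subset_closure ⟨i, rfl⟩))
    exact ⟨C, hC, hiC⟩
  choose c hcs hic using hcov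
  obtain ⟨i, j, hij, hcij⟩ : ∃ i j, i ≠ j ∧ c i = c j := by
    obtain ⟨a, -, b, -, hab, he'⟩ := Set.infinite_univ.exists_ne_map_eq_of_mapsTo
      (f := c) (t := (s : Set (Closeds S))) (fun i _ => hcs i) s.finite_toSet
    exact ⟨a, b, hab, he'⟩
  obtain ⟨ζ, hζ⟩ := QuasiSober.sober (hs _ (hcs i)) (c i).isClosed
  have hζE : ζ ∈ closure E := he.ge (Set.mem_iUnion₂.2 ⟨c i, hcs i, hζ.mem⟩)
  have hζG : ζ ∈ G := ⟨mem_countablyReached hEc hEG hζE,
    closure_minimal (fun x hx => by obtain ⟨k, rfl⟩ := hx; exact (f k).2.1.1.2) Z.isClosed hζE⟩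
  obtain ⟨k, hk, hkne⟩ : ∃ k, (f k : S) ∈ (c i : Set S) ∧ ζ ≠ (f k : S) := by
    by_cases h : ζ = (f i : S)
    · exact ⟨j, hcij ▸ hic j, fun h' => hij (f.injective (Subtype.ext (h.symm.trans h')))⟩
    · exact ⟨i, hic i, h⟩
  have hlt : ht ζ < n := (ht_lt (hζ.specializes hk) hkne).trans_le (f k).2.1.2
  exact (f k).2.2 ((hζ.specializes hk).mem_closed isClosed_closure (subset_closure ⟨hζG, hlt⟩))

theorem exists_countable_dense [CompactSpace S] (T : Set S) (hd : Dense T) :
    ∃ E : Set S, E ⊆ T ∧ E.Countable ∧ Dense E := by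
  haveI : IsNoetherian S := {}
  have hfin : (irreducibleComponents S).Finite := NoetherianSpace.finite_irreducibleComponents
  have key : ∀ Z : irreducibleComponents S, ∃ E ⊆ T, E.Countable ∧ (Z : Set S) ⊆ closure E := by
    rintro ⟨Z, hZ⟩
    have hZc : IsClosed Z := isClosed_of_mem_irreducibleComponents Z hZ
    obtain ⟨η, hη⟩ := QuasiSober.sober hZ.1 hZc
    set D : Set S := ⋃ W ∈ irreducibleComponents S \ {Z}, W
    have hD : IsClosed D := (hfin.sdiff).isClosed_biUnion fun W hW => isClosed_of_mem_irreducibleComponents W hW.1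
    have hηD : η ∉ D := by
      intro h
      obtain ⟨W, hW, hηW⟩ := Set.mem_iUnion₂.1 h
      have hsub : Z ⊆ W := (hη.def.symm.le).trans
        (closure_minimal (Set.singleton_subset_iff.2 hηW) (isClosed_of_mem_irreducibleComponents W hW.1))
      exact hW.2 (subset_antisymm (hZ.2 hW.1.1 hsub) hsub)
    have hcov : (Set.univ : Set S) = Z ∪ D := by
      refine (Set.eq_univ_of_forall fun x => ?_).symm
      have hx : irreducibleComponent x ∈ irreducibleComponents S := irreducibleComponent_mem_irreducibleComponents x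
      by_cases he : irreducibleComponent x = Z
      · exact Or.inl (he ▸ mem_irreducibleComponent)
      · exact Or.inr (Set.mem_iUnion₂.2 ⟨_, ⟨hx, he⟩, mem_irreducibleComponent⟩)
    obtain ⟨E, hET, hEc, hηE⟩ := genericPoint_mem_countablyReached T ⟨Z, hZc⟩ η hη
      ((subset_closure_inter hZ.1 hD hcov (fun x _ => hd x) (fun _ _ => trivial)
        (fun h => hηD (h hη.mem))).trans
          (closure_mono (Set.inter_subset_inter_left _ (subset_countablyReached T))))
    exact ⟨E, hET, hEc, hη.def.ge.trans (closure_minimal (Set.singleton_subset_iff.2 hηE) isClosed_closure)⟩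
  choose E hET hEc hE using key
  haveI := hfin.countable.to_subtype
  refine ⟨⋃ Z, E Z, Set.iUnion_subset hET, Set.countable_iUnion hEc, fun x => ?_⟩
  exact closure_mono (Set.subset_iUnion E ⟨_, irreducibleComponent_mem_irreducibleComponents x⟩)
    (hE ⟨_, irreducibleComponent_mem_irreducibleComponents x⟩ mem_irreducibleComponent)

end Groth.Agent.NoethPtsLib
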